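import Groth.Agent.Lib.FppfPh.Main
import Groth.Agent.Lib.FlatFactor.Saturate
import Groth.Agent.Lib.AlgSp.FppfDescent
import Groth.Agent.S1353
import Groth.Prelude.Def_Mor2
import Mathlib.AlgebraicGeometry.Morphisms.UniversallyOpen

/-!
# Fppf coverings: étale residually trivial localisation and finite locally free towers
-/

set_option autoImplicit false
set_option linter.all false
set_option backward.isDefEq.respectTransparency false
set_option maxHeartbeats 800000

universe u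

open CategoryTheory CategoryTheory.Limits AlgebraicGeometry TopologicalSpace Polynomial TensorProduct

noncomputable section

namespace GrothLib.FppfTower8

theorem exists_split (R S : Type u) [CommRing R] [CommRing S] [Algebra R S] [Algebra.IsStandardEtale R S] :
    ∃ (C : Type u) (_ : CommRing C) (_ : Algebra R C), Module.Finite R C ∧ Module.Free R C ∧
      Function.Surjective (PrimeSpectrum.comap (algebraMap R C)) ∧
      ∀ (p : PrimeSpectrum S) (q : PrimeSpectrum C),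
        PrimeSpectrum.comap (algebraMap R S) p = PrimeSpectrum.comap (algebraMap R C) q →
        ∃ c : C, c ∉ q.asIdeal ∧ Nonempty (S →ₐ[R] Localization.Away c) := by
  rcases subsingleton_or_nontrivial R with hR | hR
  · refine ⟨R, inferInstance, inferInstance, inferInstance, inferInstance, fun x => ⟨x, PrimeSpectrum.ext rfl⟩, fun p q _ => ?_⟩
    exact absurd (Subsingleton.elim (1 : R) 0 ▸ q.asIdeal.zero_mem) ((Ideal.ne_top_iff_one _).1 q.2.ne_top)
  obtain ⟨P⟩ := Algebra.IsStandardEtale.nonempty_standardEtalePresentation (R := R) (S := S)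
  obtain ⟨C, _, _, hfin, hfree, hnt, hsplit⟩ := P.P.monic_f.exists_splits_map
  haveI := hfin
  haveI := hfree
  haveI := hnt
  refine ⟨C, inferInstance, inferInstance, inferInstance, inferInstance,
    PrimeSpectrum.comap_surjective_of_faithfullyFlat, fun p q hpq => ?_⟩
  obtain ⟨P₀, hP₀⟩ : ∃ P₀, P₀ = PrimeSpectrum.comap (algebraMap R S) p := ⟨_, rfl⟩
  haveI : p.asIdeal.LiesOver P₀.asIdeal := ⟨by rw [hP₀]; rfl⟩
  haveI : q.asIdeal.LiesOver P₀.asIdeal := ⟨by rw [hP₀, hpq]; rfl⟩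
  letI := Localization.AtPrime.algebraOfLiesOver P₀.asIdeal p.asIdeal
  letI := Localization.AtPrime.algebraOfLiesOver P₀.asIdeal q.asIdeal
  haveI : Nontrivial (p.asIdeal.ResidueField ⊗[P₀.asIdeal.ResidueField] q.asIdeal.ResidueField) :=
    inferInstance
  obtain ⟨M, hM⟩ := Ideal.exists_maximal (p.asIdeal.ResidueField ⊗[P₀.asIdeal.ResidueField] q.asIdeal.ResidueField)
  let K := (p.asIdeal.ResidueField ⊗[P₀.asIdeal.ResidueField] q.asIdeal.ResidueField) ⧸ M
  letI : Field K := Ideal.Quotient.field M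
  let iS : S →+* K := (Ideal.Quotient.mk M).comp
    ((Algebra.TensorProduct.includeLeftRingHom).comp (algebraMap S p.asIdeal.ResidueField))
  let iC : C →+* K := (Ideal.Quotient.mk M).comp
    (((Algebra.TensorProduct.includeRight :
      q.asIdeal.ResidueField →ₐ[P₀.asIdeal.ResidueField]
        p.asIdeal.ResidueField ⊗[P₀.asIdeal.ResidueField] q.asIdeal.ResidueField).toRingHom).comp
      (algebraMap C q.asIdeal.ResidueField))
  have hcomm : iS.comp (algebraMap R S) = iC.comp (algebraMap R C) := by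
    ext r
    have h : (algebraMap R P₀.asIdeal.ResidueField r) • (1 : p.asIdeal.ResidueField) ⊗ₜ[P₀.asIdeal.ResidueField] (1 : q.asIdeal.ResidueField) =
        (1 : p.asIdeal.ResidueField) ⊗ₜ[P₀.asIdeal.ResidueField] ((algebraMap R P₀.asIdeal.ResidueField r) • (1 : q.asIdeal.ResidueField)) := by
      rw [TensorProduct.tmul_smul]
    rw [TensorProduct.smul_tmul', Algebra.smul_def, mul_one, Algebra.smul_def, mul_one,
      ← IsScalarTower.algebraMap_apply, ← IsScalarTower.algebraMap_apply] at h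
    show Ideal.Quotient.mk M _ = Ideal.Quotient.mk M _
    congr 1
  obtain ⟨m, hm⟩ := splits_iff_exists_multiset'.1 hsplit
  rw [(P.P.monic_f.map _).leadingCoeff, C_1, one_mul] at hm
  have hroot : (P.f.map (iC.comp (algebraMap R C))).eval (iS P.x) = 0 := by
    rw [← hcomm, Polynomial.eval_map, ← Polynomial.hom_eval₂, ← Polynomial.aeval_def, P.hasMap.1, map_zero]
  rw [← Polynomial.map_map, hm, Polynomial.map_multiset_prod, Polynomial.eval_multiset_prod,
    Multiset.prod_eq_zero_iff, Multiset.map_map, Multiset.map_map, Multiset.mem_map] at hroot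
  obtain ⟨a, ha, ha0⟩ := hroot
  simp only [Function.comp_apply, Polynomial.map_add, Polynomial.map_X, Polynomial.map_C, Polynomial.eval_add,
    Polynomial.eval_X, Polynomial.eval_C] at ha0
  have hroot' : aeval (-a) P.f = 0 := by
    rw [Polynomial.aeval_def, ← Polynomial.eval_map, hm, Polynomial.eval_multiset_prod]
    refine Multiset.prod_eq_zero ?_
    rw [Multiset.map_map, Multiset.mem_map]
    exact ⟨a, ha, by simp⟩
  refine ⟨aeval (-a) P.g, fun hq => ?_, ⟨(P.P.lift (algebraMap C _ (-a)) ⟨?_, ?_⟩).comp P.equivRing.toAlgHom⟩⟩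
  · have h1 : iC (aeval (-a) P.g) = 0 := by
      show Ideal.Quotient.mk M (Algebra.TensorProduct.includeRight (algebraMap C q.asIdeal.ResidueField _)) = 0
      rw [Ideal.algebraMap_residueField_eq_zero.2 hq, map_zero, map_zero]
    have h2 : iC (aeval (-a) P.g) = iS (aeval P.x P.g) := by
      rw [Polynomial.aeval_def, Polynomial.hom_eval₂, Polynomial.aeval_def, Polynomial.hom_eval₂, hcomm,
        map_neg, ← eq_neg_of_add_eq_zero_left ha0]
    exact (P.hasMap.2.map iS).ne_zero (h2.symm.trans h1)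
  · rw [Polynomial.aeval_algebraMap_apply, hroot', map_zero]
  · rw [Polynomial.aeval_algebraMap_apply]
    exact IsLocalization.Away.algebraMap_isUnit _

theorem exists_finite_local_lift {R : CommRingCat.{u}} {S' : Scheme.{u}} (j : S' ⟶ Spec R) [Etale j]
    (s' : S') :
    ∃ (W : (Spec R).Opens), j s' ∈ W ∧ IsAffineOpen W ∧ ∃ (Y : Scheme.{u}) (π : Y ⟶ W.toScheme),
      Mor2.IsFinLocFree π ∧ Surjective π ∧ ∀ y : Y, ∃ (D : Y.Opens) (k : D.toScheme ⟶ S'),
        y ∈ D ∧ IsAffineOpen D ∧ k ≫ j = D.ι ≫ π ≫ W.ι := by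
  obtain ⟨V, hV, hsV, -⟩ := exists_isAffineOpen_mem_and_subset (x := s') (U := (⊤ : S'.Opens)) trivial
  obtain ⟨ψ, hψ⟩ := Spec.map_surjective (hV.fromSpec ≫ j)
  have he : ψ.hom.Etale := (HasRingHomProperty.Spec_iff (P := @Etale)).1 (by rw [hψ]; infer_instance)
  let : Algebra R Γ(S', V) := ψ.hom.toAlgebra
  have : Algebra.Etale R Γ(S', V) := he
  obtain ⟨Q, hQ⟩ : ∃ Q, hV.fromSpec Q = s' := hV.range_fromSpec.symm.subset hsV
  have : Algebra.IsEtaleAt R Q.asIdeal :=
    (Algebra.etaleLocus_eq_univ_iff.2 (inferInstance : Algebra.FormallyEtale R Γ(S', V))).symm.subset (Set.mem_univ (α := PrimeSpectrum Γ(S', V)) Q)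
  obtain ⟨b, hbQ, hb⟩ := Algebra.IsEtaleAt.exists_isStandardEtale (R := R) Q.asIdeal
  let Bb := Localization.Away b
  obtain ⟨C, _, _, hfin, hfree, hsurj, hC⟩ := exists_split R Bb
  let e : Spec (CommRingCat.of Bb) ⟶ S' :=
    Spec.map (CommRingCat.ofHom (algebraMap Γ(S', V) Bb)) ≫ hV.fromSpec
  have hej : e ≫ j = Spec.map (CommRingCat.ofHom (algebraMap R Bb)) := by
    rw [Category.assoc, ← hψ, ← Spec.map_comp]
    rfl
  have : IsOpenImmersion e := by
    have : IsOpenImmersion (Spec.map (CommRingCat.ofHom (algebraMap Γ(S', V) Bb))) :=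
      IsOpenImmersion.of_isLocalization b
    infer_instance
  obtain ⟨Q', hQ'⟩ : ∃ Q', e Q' = s' := by
    have hr : Q ∈ Set.range (PrimeSpectrum.comap (algebraMap Γ(S', V) Bb)) := by
      rw [PrimeSpectrum.localization_away_comap_range Bb b]; exact hbQ
    obtain ⟨Q', hQ'⟩ := hr
    exact ⟨Q', (congrArg hV.fromSpec hQ').trans hQ⟩
  let J := e ≫ j
  let O : (Spec R).Opens := ⟨Set.range J, J.isOpenMap.isOpen_range⟩
  obtain ⟨W, hW, hxW, hWO⟩ := exists_isAffineOpen_mem_and_subset (x := j s') (U := O)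
    ⟨Q', by show (e ≫ j) Q' = _; rw [Scheme.Hom.comp_apply, hQ']⟩
  let π₀ : Spec (CommRingCat.of C) ⟶ Spec R := Spec.map (CommRingCat.ofHom (algebraMap R C))
  have : IsFinite π₀ := (IsFinite.SpecMap_iff _).2 (RingHom.finite_algebraMap.2 hfin)
  have : Surjective π₀ := ⟨hsurj⟩
  haveI := hfin
  haveI := hfree
  haveI : Flat π₀ := (HasRingHomProperty.Spec_iff (P := @Flat)).2 (RingHom.flat_algebraMap_iff.2 inferInstance)
  haveI : Module.FinitePresentation R C := Module.finitePresentation_of_projective R C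
  haveI : LocallyOfFinitePresentation π₀ := (HasRingHomProperty.Spec_iff (P := @LocallyOfFinitePresentation)).2
    (RingHom.finitePresentation_algebraMap.2 (Algebra.FinitePresentation.of_finitePresentation (R := R) (S := C)))
  have : Flat (π₀ ∣_ W) := IsZariskiLocalAtTarget.restrict ‹Flat π₀› _
  have : LocallyOfFinitePresentation (π₀ ∣_ W) := IsZariskiLocalAtTarget.restrict ‹LocallyOfFinitePresentation π₀› _
  have : IsFinite (π₀ ∣_ W) := IsZariskiLocalAtTarget.restrict ‹IsFinite π₀› _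
  have : Surjective (π₀ ∣_ W) := IsZariskiLocalAtTarget.restrict ‹Surjective π₀› _
  refine ⟨W, hxW, hW, _, π₀ ∣_ W, ⟨‹_›, ‹_›, ‹_›⟩, ‹_›, fun y => ?_⟩
  obtain ⟨p, hp⟩ := hWO (show π₀ ((π₀ ⁻¹ᵁ W).ι y) ∈ W from y.2)
  have hp' : PrimeSpectrum.comap (algebraMap R Bb) p =
      PrimeSpectrum.comap (algebraMap R C) ((π₀ ⁻¹ᵁ W).ι y) := by
    rw [show J = _ from hej] at hp
    exact hp
  obtain ⟨c, hc, ⟨φ⟩⟩ := hC p _ hp'
  let ec : Spec (CommRingCat.of (Localization.Away c)) ⟶ Spec (CommRingCat.of C) :=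
    Spec.map (CommRingCat.ofHom (algebraMap C (Localization.Away c)))
  have : IsOpenImmersion ec := IsOpenImmersion.of_isLocalization c
  obtain ⟨D, hD, hyD, hDc⟩ := exists_isAffineOpen_mem_and_subset (x := y)
    (U := (π₀ ⁻¹ᵁ W).ι ⁻¹ᵁ ec.opensRange) (show (π₀ ⁻¹ᵁ W).ι y ∈ Set.range ec from by
      have hr : (π₀ ⁻¹ᵁ W).ι y ∈ Set.range (PrimeSpectrum.comap (algebraMap C (Localization.Away c))) := by
        rw [PrimeSpectrum.localization_away_comap_range (Localization.Away c) c]; exact hc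
      exact hr)
  have hrange : Set.range (D.ι ≫ (π₀ ⁻¹ᵁ W).ι) ⊆ Set.range ec := by
    rintro _ ⟨z, rfl⟩
    rw [Scheme.Hom.comp_apply]
    exact hDc z.2
  refine ⟨D, IsOpenImmersion.lift ec (D.ι ≫ (π₀ ⁻¹ᵁ W).ι) hrange ≫
    Spec.map (CommRingCat.ofHom φ.toRingHom) ≫ e, hyD, hD, ?_⟩
  rw [Category.assoc, Category.assoc, hej, ← Spec.map_comp, morphismRestrict_ι, ← Category.assoc D.ι]
  conv_rhs => rw [← IsOpenImmersion.lift_fac ec (D.ι ≫ (π₀ ⁻¹ᵁ W).ι) hrange, Category.assoc, ← Spec.map_comp]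
  congr 2
  rw [← CommRingCat.ofHom_comp, ← CommRingCat.ofHom_comp, AlgHom.toRingHom_eq_coe, AlgHom.comp_algebraMap,
    ← IsScalarTower.algebraMap_eq]

theorem exists_chart {X' X : Scheme.{u}} (f : X' ⟶ X) [Surjective f] [Flat f]
    [LocallyOfFinitePresentation f] (x : X) :
    ∃ (S Q : Scheme.{u}) (j : S ⟶ X) (u : S) (g : Q ⟶ S) (h : Q ⟶ X'),
      Hens2.IsEtaleNbhd j u x ∧ Mor2.IsFinLocFree g ∧ Surjective g ∧ h ≫ f = g ≫ j := by
  obtain ⟨x', hx'⟩ := f.surjective x
  obtain ⟨R, D, i, φ, q, P, hi, hfp, hqf, hq, hP, hflat⟩ := GrothLib.FlatFactor.exists_slice f x'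
  have hqfl : Flat (q ≫ f) := GrothLib.AlgSp.fppfDescends_flat (q ≫ f) f _ _
    (IsPullback.of_hasPullback (q ≫ f) f) ‹Flat f› ‹LocallyOfFinitePresentation f› ‹Surjective f› hflat
  let k := Spec.map φ
  haveI : Flat k := by
    rw [hq] at hqfl
    exact MorphismProperty.of_postcomp @Flat k i (W' := @IsOpenImmersion) hi hqfl
  haveI : LocallyOfFinitePresentation k :=
    (HasRingHomProperty.Spec_iff (P := @LocallyOfFinitePresentation)).2 hfp
  haveI : LocallyQuasiFinite k := (HasRingHomProperty.Spec_iff (P := @LocallyQuasiFinite)).2 hqf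
  obtain ⟨T, fT, u, hT, V, v, hvV, hfin, hvu, -, hvP, -⟩ :=
    Groth.Agent.S1353.result k P (k.quasiFiniteAt P)
  haveI := hT.etale
  let gV : V.toScheme ⟶ T := V.ι ≫ pullback.snd k fT
  haveI : IsFinite gV := hfin
  haveI : Flat gV := inferInstance
  haveI : LocallyOfFinitePresentation gV := inferInstance
  let O : T.Opens := ⟨Set.range gV.base, gV.isOpenMap.isOpen_range⟩
  haveI : Surjective (gV ∣_ O) := ⟨fun o => by
    obtain ⟨w, hw⟩ := o.2
    exact ⟨⟨w, show gV.base w ∈ O by rw [hw]; exact o.2⟩, Subtype.ext ((morphismRestrict_base_coe gV O _).trans hw)⟩⟩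
  have hu : u ∈ O := ⟨⟨v, hvV⟩, hvu⟩
  refine ⟨O.toScheme, (gV ⁻¹ᵁ O).toScheme, O.ι ≫ fT ≫ i, ⟨u, hu⟩, gV ∣_ O,
    (gV ⁻¹ᵁ O).ι ≫ V.ι ≫ pullback.fst k fT ≫ q, ⟨inferInstance, ?_, ?_⟩,
    ⟨IsZariskiLocalAtTarget.restrict ‹IsFinite gV› _, IsZariskiLocalAtTarget.restrict ‹Flat gV› _,
      IsZariskiLocalAtTarget.restrict ‹LocallyOfFinitePresentation gV› _⟩, inferInstance, ?_⟩
  · show i.base (fT.base u) = x
    rw [hT.base_eq, ← hx', ← hP]
  · refine (ConcreteCategory.isIso_iff_bijective _).mp ?_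
    rw [Scheme.residueFieldMap_comp, Scheme.residueFieldMap_comp]
    haveI : IsIso (fT.residueFieldMap (O.ι ⟨u, hu⟩)) :=
      (ConcreteCategory.isIso_iff_bijective _).mpr hT.residue_bijective
    refine @IsIso.comp_isIso _ _ _ _ _ _ _ (@IsIso.comp_isIso _ _ _ _ _ _ _ ?_ ?_) ?_ <;> infer_instance
  · rw [← Category.assoc (gV ∣_ O), morphismRestrict_ι]
    simp only [gV, Category.assoc, hq]
    rw [pullback.condition_assoc]

theorem exists_chart_of_mem_range {X' X : Scheme.{u}} (f : X' ⟶ X) [Flat f]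
    [LocallyOfFinitePresentation f] (x' : X') :
    ∃ (S Q : Scheme.{u}) (j : S ⟶ X) (u : S) (g : Q ⟶ S) (h : Q ⟶ X'),
      Hens2.IsEtaleNbhd j u (f x') ∧ Mor2.IsFinLocFree g ∧ Surjective g ∧ h ≫ f = g ≫ j := by
  let U₀ : X.Opens := ⟨Set.range f, f.isOpenMap.isOpen_range⟩
  haveI : Surjective (f ∣_ U₀) := ⟨fun o => by
    obtain ⟨w, hw⟩ := o.2
    exact ⟨⟨w, show f.base w ∈ U₀ by rw [hw]; exact o.2⟩, Subtype.ext ((morphismRestrict_base_coe f U₀ _).trans hw)⟩⟩
  obtain ⟨S, Q, j, u, g, h, hj, hg, hgs, hc⟩ := exists_chart (f ∣_ U₀) ⟨f x', ⟨x', rfl⟩⟩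
  haveI := hj.etale
  refine ⟨S, Q, j ≫ U₀.ι, u, g, h ≫ (f ⁻¹ᵁ U₀).ι, ⟨inferInstance, ?_, ?_⟩, hg, hgs, ?_⟩
  · show (U₀.ι (j u) : X) = _
    rw [hj.base_eq]
    rfl
  · refine (ConcreteCategory.isIso_iff_bijective _).mp ?_
    rw [Scheme.residueFieldMap_comp]
    haveI : IsIso (j.residueFieldMap u) := (ConcreteCategory.isIso_iff_bijective _).mpr hj.residue_bijective
    refine @IsIso.comp_isIso _ _ _ _ _ _ _ ?_ ?_ <;> infer_instance
  · rw [Category.assoc, ← morphismRestrict_ι, ← Category.assoc, hc, Category.assoc]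

end GrothLib.FppfTower8
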